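import Cfsg.Agent.H641.M23.Pi
import Cfsg.Agent.J3Type.CharTools
import Cfsg.Agent.SmallSimple.SelfCentSum
import Cfsg.Agent.Blocks.Basic
import Cfsg.Agent.H493.RatB.WitS

/-!
# (M,23) of S4929, [BETA]: the function `b h = V (u h)` on `H = HN` (helper616)

`V` the rational irreducible character of degree `196883` of the Monster, `u` in `5A`, `C(u) = ⟨u⟩ × T`, `T ≅ H`.
`Bt b` : the formal properties of `b : H → ℤ`, `b h = V (u * e h)`; `exists_bt` : existence.
-/

set_option autoImplicit false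

open Cfsg Subgroup Representation

namespace Cfsg.Agent.H616.M23

open Cfsg.Agent.Characters.Core Cfsg.Agent.H493.RatB
open scoped BigOperators

/-- the formal properties of the function `b h = V (u h)` -/
structure Bt {H : Type} [Group H] [Finite H] (b : H → ℤ) : Prop where
  one : b 1 = 133
  conj : ∀ g h : H, IsConj g h → b g = b h
  pow : ∀ (h : H) (m : ℕ), ¬ 5 ∣ orderOf h → m.Coprime (orderOf h) → b (h ^ m) = b h
  congr : ∀ (h : H) (p : ℕ), p.Prime → p ≠ 5 → ¬ 5 ∣ orderOf h → (p : ℤ) ∣ b h - b (h ^ p)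
  bound : ∀ h : H, ¬ 5 ∣ orderOf h → (b h ^ 2 + b (h * h) - 2 - 2 * b h) ^ 2 ≤
    8 * (5 * (Nat.card (centralizer ({h} : Set H)) : ℤ) - 1 - b h ^ 2)
  sum : ∀ {K : Type} [Group K] [Fintype K] (f : K →* H) (s : H), (∀ k, Commute s (f k)) →
    (Nat.card K : ℤ) ∣ ∑ k, b (s * f k)

section gen

variable {G : Type} [Group G] [Finite G]

/-- the trace of `w` on the fixed space of `K` -/
theorem exists_integral {χ : G → ℂ} (hχ : IsCharacter G χ) {K : Type} [Group K] [Fintype K] (f : K →* G) (w : G)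
    (hw : ∀ k, Commute w (f k)) : ∃ z : ℂ, IsIntegral ℤ z ∧ ∑ k, χ (w * f k) = (Nat.card K : ℂ) * z := by
  classical
  obtain ⟨n, ρ, rfl⟩ := hχ
  have hK : ((Nat.card K : ℕ) : ℂ) ≠ 0 := by exact_mod_cast Nat.card_pos.ne'
  set P : Module.End ℂ (Fin n → ℂ) := ((Nat.card K : ℂ)⁻¹) • ∑ k, ρ (f k) with hP
  have hPP : P * P = P := by
    have h1 : (∑ k, ρ (f k)) * (∑ k, ρ (f k)) = (Nat.card K : ℂ) • ∑ k, ρ (f k) := by
      rw [Finset.sum_mul]
      have h2 : ∀ k : K, ρ (f k) * ∑ l, ρ (f l) = ∑ l, ρ (f l) := by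
        intro k
        rw [Finset.mul_sum]
        refine Fintype.sum_equiv (Equiv.mulLeft k) _ _ fun l => ?_
        rw [Equiv.coe_mulLeft, map_mul, map_mul]
      rw [Finset.sum_congr rfl fun k _ => h2 k, Finset.sum_const, Finset.card_univ, ← Nat.card_eq_fintype_card,
        ← Nat.cast_smul_eq_nsmul ℂ]
    rw [hP, smul_mul_smul_comm, h1, smul_smul]
    congr 1
    field_simp
  let ρ' : Representation ℂ (zpowers w) (Fin n → ℂ) := ρ.comp (zpowers w).subtype
  have hc : ∀ g : zpowers w, P * ρ' g = ρ' g * P := by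
    intro g
    have h1 : ∀ k, Commute (g : G) (f k) := by
      intro k
      obtain ⟨i, hi⟩ := g.2
      simp only at hi
      rw [← hi]
      exact (hw k).zpow_left i
    show P * ρ (g : G) = ρ (g : G) * P
    rw [hP, smul_mul_assoc, mul_smul_comm, Finset.sum_mul, Finset.mul_sum]
    congr 1
    refine Finset.sum_congr rfl fun k _ => ?_
    rw [← map_mul, ← map_mul, (h1 k).eq]
  have h2 := H641.M23.isCharacter_of_idem ρ' P hPP hc
  have h3 := Characters.GaloisBasic.isIntegral_apply h2 (⟨w, mem_zpowers w⟩ : zpowers w)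
  refine ⟨_, h3, ?_⟩
  show ∑ k, LinearMap.trace ℂ (Fin n → ℂ) (ρ (w * f k)) = (Nat.card K : ℂ) * LinearMap.trace ℂ (Fin n → ℂ) (ρ w * P)
  rw [hP, mul_smul_comm, map_smul, smul_eq_mul, ← mul_assoc, mul_inv_cancel₀ hK, one_mul, Finset.mul_sum, map_sum]
  refine Finset.sum_congr rfl fun k _ => ?_
  rw [map_mul]

/-- the sum over `K` of the values at `w f(k)` is divisible by `|K|` -/
theorem card_dvd_sum {χ : G → ℂ} (hχ : IsCharacter G χ) {K : Type} [Group K] [Fintype K] (f : K →* G) (w : G)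
    (hw : ∀ k, Commute w (f k)) {b : K → ℤ} (hb : ∀ k, χ (w * f k) = b k) : (Nat.card K : ℤ) ∣ ∑ k, b k := by
  obtain ⟨z, hz, h⟩ := exists_integral hχ f w hw
  have h1 : ((∑ k, b k : ℤ) : ℂ) = (Nat.card K : ℂ) * z := by
    rw [← h, Int.cast_sum]
    exact Finset.sum_congr rfl fun k _ => (hb k).symm
  exact J3Type.CharTools.dvd_of_integral Nat.card_pos.ne' hz h1

/-- the values of a rational character -/
theorem exists_int {χ : G → ℂ} (hχ : IsCharacter G χ) (hr : RatV χ) (g : G) : ∃ k : ℤ, χ g = k :=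
  Characters.GaloisBasic.exists_int_of_rat hχ g (hr g)

/-- the value of a rational character at a power -/
theorem val_pow {χ : G → ℂ} (hχ : IsCharacter G χ) (hr : RatV χ) (g : G) {m : ℕ} (hm : m.Coprime (orderOf g)) :
    χ (g ^ m) = χ g := by
  have h1 : IsCharacter (zpowers g) (fun x => χ x) := isCharacter_comp (zpowers g).subtype hχ
  have h2 := (Characters.GaloisBasic.exists_rat_iff h1 (⟨g, mem_zpowers g⟩ : zpowers g)).1 (hr g) m
    (by rw [Nat.card_zpowers]; exact hm)
  exact h2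

/-- the bound from `Sym² V = 1 + V + A + B` -/
theorem bound_aux {V A B : IrrCharacter G} (hV : (V : G → ℂ) 1 = 196883) (hA : (A : G → ℂ) 1 = 842609326)
    (hB : (B : G → ℂ) 1 = 18538750076) (hrA : RatV (A : G → ℂ)) (hrB : RatV (B : G → ℂ))
    (hsym : ∀ g, ((V : G → ℂ) g ^ 2 + (V : G → ℂ) (g * g)) / 2 = 1 + (V : G → ℂ) g + (A : G → ℂ) g + (B : G → ℂ) g)
    {g : G} {v v' : ℤ} (hv : (V : G → ℂ) g = v) (hv' : (V : G → ℂ) (g * g) = v') :
    (v ^ 2 + v' - 2 - 2 * v) ^ 2 ≤ 8 * ((Nat.card (centralizer ({g} : Set G)) : ℤ) - 1 - v ^ 2) := by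
  classical
  have := finite_irr (G := G)
  have := Fintype.ofFinite (IrrCharacter G)
  obtain ⟨x, hx⟩ := exists_int (isIrr_isCharacter A.2) hrA g
  obtain ⟨y, hy⟩ := exists_int (isIrr_isCharacter B.2) hrB g
  have h1 := hsym g
  rw [hv, hv', hx, hy] at h1
  have h2 : v ^ 2 + v' = 2 * (1 + v + x + y) := by
    have h3 : ((v ^ 2 + v' : ℤ) : ℂ) = ((2 * (1 + v + x + y) : ℤ) : ℂ) := by
      push_cast
      linear_combination 2 * h1
    exact_mod_cast h3
  obtain ⟨E, hE⟩ : ∃ E : IrrCharacter G, (E : G → ℂ) = fun _ => 1 := ⟨⟨_, isIrr_one⟩, rfl⟩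
  have hE1 : (E : G → ℂ) 1 = 1 := by rw [hE]
  have hne : ∀ {a b : IrrCharacter G} {x y : ℂ}, (a : G → ℂ) 1 = x → (b : G → ℂ) 1 = y → x ≠ y → a ≠ b := by
    rintro a b x y ha hb hxy rfl
    exact hxy (ha.symm.trans hb)
  have n1 : E ≠ V := hne hE1 hV (by norm_num)
  have n2 : E ≠ A := hne hE1 hA (by norm_num)
  have n3 : E ≠ B := hne hE1 hB (by norm_num)
  have n4 : V ≠ A := hne hV hA (by norm_num)
  have n5 : V ≠ B := hne hV hB (by norm_num)
  have n6 : A ≠ B := hne hA hB (by norm_num)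
  have h4 := SmallSimple.SelfCentSum.sum_norm_sq g
  have h5 : ∑ χ ∈ ({E, V, A, B} : Finset (IrrCharacter G)), ‖(χ : G → ℂ) g‖ ^ 2 ≤
      ∑ χ : IrrCharacter G, ‖(χ : G → ℂ) g‖ ^ 2 :=
    Finset.sum_le_sum_of_subset_of_nonneg (Finset.subset_univ _) fun _ _ _ => sq_nonneg _
  rw [h4, Finset.sum_insert (by simp [n1, n2, n3]), Finset.sum_insert (by simp [n4, n5]),
    Finset.sum_insert (by simp [n6]), Finset.sum_singleton, hv, hx, hy, hE] at h5
  simp only [norm_one, Complex.norm_intCast, sq_abs, one_pow] at h5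
  have h6 : 1 + (v ^ 2 + (x ^ 2 + y ^ 2)) ≤ (Nat.card (centralizer ({g} : Set G)) : ℤ) := by exact_mod_cast h5
  have h7 : v ^ 2 + v' - 2 - 2 * v = 2 * (x + y) := by linarith
  rw [h7]
  nlinarith [sq_nonneg (x - y)]

end gen

section local_

variable {G : Type} [Group G] [Finite G] {u : G} {T : Subgroup G}

theorem cop5 {m : ℕ} (h : ¬ 5 ∣ m) : Nat.Coprime 5 m := (Nat.Prime.coprime_iff_not_dvd (by norm_num)).2 h

theorem orderOf_dvd_mul (hu : orderOf u = 5) {y : G} (hc : Commute u y) : orderOf (u * y) ∣ 5 * orderOf y := by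
  rw [← hu]
  exact hc.orderOf_mul_dvd_mul_orderOf

/-- `V (u y^m) = V (u y)` -/
theorem val_y {χ : G → ℂ} (hχ : IsCharacter G χ) (hr : RatV χ) (hu : orderOf u = 5) {y : G} (hc : Commute u y)
    (hy : ¬ 5 ∣ orderOf y) {m : ℕ} (hm : m.Coprime (orderOf y)) : χ (u * y ^ m) = χ (u * y) := by
  obtain ⟨k, hk1, hk2⟩ := Nat.chineseRemainder (cop5 hy) 1 m
  have h1 : u ^ k = u := by
    conv_rhs => rw [← pow_one u]
    rw [pow_eq_pow_iff_modEq, hu]
    exact hk1
  have h2 : y ^ k = y ^ m := by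
    rw [pow_eq_pow_iff_modEq]
    exact hk2
  have h3 : k.Coprime (orderOf (u * y)) := by
    refine Nat.Coprime.coprime_dvd_right (orderOf_dvd_mul hu hc) (Nat.Coprime.mul_right ?_ ?_)
    · rw [Nat.coprime_comm]
      refine cop5 fun h => ?_
      have h4 : k % 5 = 1 % 5 := hk1
      omega
    · have h4 : Nat.gcd k (orderOf y) = Nat.gcd m (orderOf y) := Nat.ModEq.gcd_eq hk2
      rw [Nat.Coprime, h4]
      exact hm
  rw [← val_pow hχ hr (u * y) h3, hc.mul_pow, h1, h2]

/-- `V (u^k y) = V (u y)` -/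
theorem val_u {χ : G → ℂ} (hχ : IsCharacter G χ) (hr : RatV χ) (hu : orderOf u = 5) {y : G} (hc : Commute u y)
    (hy : ¬ 5 ∣ orderOf y) {m : ℕ} (hm : ¬ 5 ∣ m) : χ (u ^ m * y) = χ (u * y) := by
  obtain ⟨k, hk1, hk2⟩ := Nat.chineseRemainder (cop5 hy) m 1
  have h1 : u ^ k = u ^ m := by
    rw [pow_eq_pow_iff_modEq, hu]
    exact hk1
  have h2 : y ^ k = y := by
    conv_rhs => rw [← pow_one y]
    rw [pow_eq_pow_iff_modEq]
    exact hk2
  have h3 : k.Coprime (orderOf (u * y)) := by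
    refine Nat.Coprime.coprime_dvd_right (orderOf_dvd_mul hu hc) (Nat.Coprime.mul_right ?_ ?_)
    · rw [Nat.coprime_comm]
      refine cop5 fun h => ?_
      have h4 : k % 5 = m % 5 := hk1
      omega
    · have h4 : Nat.gcd k (orderOf y) = Nat.gcd 1 (orderOf y) := Nat.ModEq.gcd_eq hk2
      rw [Nat.Coprime, h4, Nat.gcd_one_left]
  rw [← val_pow hχ hr (u * y) h3, hc.mul_pow, h1, h2]

/-- the centralizer of `u y` -/
theorem card_cent_le (hu : orderOf u = 5) (hle : T ≤ centralizer ({u} : Set G))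
    (hsplit : ∀ c ∈ centralizer ({u} : Set G), ∃ i : ℕ, ∃ t ∈ T, c = u ^ i * t) {y : T} (hy : ¬ 5 ∣ orderOf y) :
    Nat.card (centralizer ({u * (y : G)} : Set G)) ≤ 5 * Nat.card (centralizer ({y} : Set T)) := by
  have hcu : ∀ t ∈ T, Commute u t := fun t ht => (mem_centralizer_singleton_iff.1 (hle ht)).symm
  have hc : Commute u (y : G) := hcu y y.2
  have hyo : orderOf (y : G) = orderOf y := Subgroup.orderOf_coe y
  -- `u` is a power of `u y`
  obtain ⟨k, hk1, hk2⟩ := Nat.chineseRemainder (cop5 hy) 1 0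
  have hku : (u * (y : G)) ^ k = u := by
    rw [hc.mul_pow]
    have h1 : u ^ k = u := by
      conv_rhs => rw [← pow_one u]
      rw [pow_eq_pow_iff_modEq, hu]
      exact hk1
    have h2 : (y : G) ^ k = 1 := by
      rw [← orderOf_dvd_iff_pow_eq_one, hyo]
      exact (Nat.modEq_zero_iff_dvd).1 hk2
    rw [h1, h2, mul_one]
  have hcom : ∀ c ∈ centralizer ({u * (y : G)} : Set G), Commute c u ∧ Commute c (y : G) := by
    intro c hcc
    have h1 : Commute c (u * (y : G)) := mem_centralizer_singleton_iff.1 hcc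
    have h2 : Commute c u := by
      have := h1.pow_right k
      rwa [hku] at this
    refine ⟨h2, ?_⟩
    have h3 : (y : G) = u⁻¹ * (u * (y : G)) := by group
    rw [h3]
    exact h2.inv_right.mul_right h1
  let F : Fin 5 × centralizer ({y} : Set T) → centralizer ({u * (y : G)} : Set G) := fun p =>
    ⟨u ^ (p.1 : ℕ) * ((p.2 : T) : G), by
      rw [mem_centralizer_singleton_iff]
      have h1 : Commute ((p.2 : T) : G) (y : G) := congrArg Subtype.val (mem_centralizer_singleton_iff.1 p.2.2)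
      have h2 : Commute u ((p.2 : T) : G) := hcu _ (p.2 : T).2
      exact (((Commute.refl u).pow_left _).mul_right (hc.pow_left _)).mul_left (h2.symm.mul_right h1)⟩
  have hF : Function.Surjective F := by
    rintro ⟨c, hcc⟩
    obtain ⟨h1, h2⟩ := hcom c hcc
    obtain ⟨i, t, ht, rfl⟩ := hsplit c (mem_centralizer_singleton_iff.2 h1)
    have h3 : Commute t (y : G) := by
      have h4 : t = (u ^ i)⁻¹ * (u ^ i * t) := by group
      rw [h4]
      exact ((hc.pow_left i).inv_left).mul_left h2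
    refine ⟨(⟨i % 5, Nat.mod_lt _ (by norm_num)⟩, ⟨⟨t, ht⟩, mem_centralizer_singleton_iff.2 (Subtype.ext h3)⟩), ?_⟩
    apply Subtype.ext
    show u ^ (i % 5) * t = u ^ i * t
    congr 1
    rw [← hu, pow_mod_orderOf]
  have h5 := Nat.card_le_card_of_surjective F hF
  rw [Nat.card_prod, Nat.card_eq_fintype_card (α := Fin 5), Fintype.card_fin] at h5
  exact h5

/-- **The function `b`.** -/
theorem exists_bt {V A B : IrrCharacter G} (hV : (V : G → ℂ) 1 = 196883) (hA : (A : G → ℂ) 1 = 842609326)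
    (hB : (B : G → ℂ) 1 = 18538750076) (hrV : RatV (V : G → ℂ)) (hrA : RatV (A : G → ℂ)) (hrB : RatV (B : G → ℂ))
    (hsym : ∀ g, ((V : G → ℂ) g ^ 2 + (V : G → ℂ) (g * g)) / 2 = 1 + (V : G → ℂ) g + (A : G → ℂ) g + (B : G → ℂ) g)
    (hu : orderOf u = 5) (hle : T ≤ centralizer ({u} : Set G))
    (hsplit : ∀ c ∈ centralizer ({u} : Set G), ∃ i : ℕ, ∃ t ∈ T, c = u ^ i * t)
    (hVu : (V : G → ℂ) u = 133) {H : Type} [Group H] [Finite H] (e : H ≃* T) :
    ∃ b : H → ℤ, (∀ h, (V : G → ℂ) (u * (e h : G)) = b h) ∧ Bt b := by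
  have hVc := isIrr_isCharacter V.2
  have hcu : ∀ h : H, Commute u (e h : G) := fun h => (mem_centralizer_singleton_iff.1 (hle (e h).2)).symm
  have ho : ∀ h : H, orderOf (e h : G) = orderOf h := fun h => by rw [Subgroup.orderOf_coe, e.orderOf_eq]
  choose b hb using fun h : H => exists_int hVc hrV (u * (e h : G))
  have inj : ∀ {x y : ℤ}, (x : ℂ) = y → x = y := fun h => by exact_mod_cast h
  have hmap : ∀ (h : H) (m : ℕ), (e (h ^ m) : G) = (e h : G) ^ m := fun h m => by rw [map_pow]; rfl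
  refine ⟨b, hb, ?_, ?_, ?_, ?_, ?_, ?_⟩
  · apply inj
    rw [← hb, map_one]
    show (V : G → ℂ) (u * 1) = _
    rw [mul_one, hVu]
    norm_num
  · intro g h hgh
    obtain ⟨c, hc⟩ := isConj_iff.1 hgh
    apply inj
    rw [← hb, ← hb, ← hc]
    have h1 : u * (e (c * g * c⁻¹) : G) = (e c : G) * (u * (e g : G)) * (e c : G)⁻¹ := by
      rw [map_mul, map_mul, map_inv]
      show u * ((e c : G) * (e g : G) * (e c : G)⁻¹) = _
      rw [← mul_assoc, ← mul_assoc, (hcu c).eq]
      group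
    rw [h1, isCharacter_isClassFunction hVc]
  · intro h m h5 hm
    apply inj
    rw [← hb, ← hb, hmap]
    exact val_y hVc hrV hu (hcu h) (by rw [ho]; exact h5) (by rw [ho]; exact hm)
  · intro h p hp hp5 h5
    refine J3Type.CharTools.int_congr hVc (u * (e h : G)) hp (hb h) ?_
    rw [(hcu h).mul_pow, ← hb, hmap]
    refine val_u hVc hrV hu ((hcu h).pow_right p) ?_ ?_
    · intro h6
      apply h5
      rw [← ho h]
      exact h6.trans (orderOf_pow_dvd p)
    · intro h6
      exact hp5 ((Nat.prime_dvd_prime_iff_eq (by norm_num) hp).1 h6).symm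
  · intro h h5
    have h1 : (V : G → ℂ) (u * (e h : G) * (u * (e h : G))) = b (h * h) := by
      have h2 : u * (e h : G) * (u * (e h : G)) = u ^ 2 * (e (h * h) : G) := by
        rw [map_mul]
        show _ = u ^ 2 * ((e h : G) * (e h : G))
        rw [← pow_two (u * (e h : G)), (hcu h).mul_pow, pow_two (e h : G)]
      rw [h2, ← hb]
      refine val_u hVc hrV hu (hcu _) ?_ (by norm_num)
      rw [ho, ← pow_two]
      exact fun h6 => h5 (h6.trans (orderOf_pow_dvd 2))
    have h3 := bound_aux hV hA hB hrA hrB hsym (hb h) h1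
    have h4 := card_cent_le hu hle hsplit (y := e h) (by rw [e.orderOf_eq]; exact h5)
    have h6 : Nat.card (centralizer ({e h} : Set T)) = Nat.card (centralizer ({h} : Set H)) := by
      refine Nat.card_congr (e.symm.toEquiv.subtypeEquiv fun g => ?_)
      rw [mem_centralizer_singleton_iff, mem_centralizer_singleton_iff]
      show g * e h = e h * g ↔ e.symm g * h = h * e.symm g
      rw [← e.injective.eq_iff, map_mul, map_mul, e.apply_symm_apply]
    rw [h6] at h4
    have h7 : (Nat.card (centralizer ({u * (e h : G)} : Set G)) : ℤ) ≤ 5 * (Nat.card (centralizer ({h} : Set H)) : ℤ) := by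
      exact_mod_cast h4
    linarith
  · intro K _ _ f s hs
    have h1 := card_dvd_sum hVc (T.subtype.comp (e.toMonoidHom.comp f)) (u * (e s : G)) (b := fun k => b (s * f k)) ?_ ?_
    · exact h1
    · intro k
      show Commute (u * (e s : G)) (e (f k) : G)
      refine (hcu _).mul_left ?_
      have h2 : e s * e (f k) = e (f k) * e s := by rw [← map_mul, ← map_mul, (hs k).eq]
      exact congrArg Subtype.val h2
    · intro k
      show (V : G → ℂ) (u * (e s : G) * (e (f k) : G)) = b (s * f k)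
      rw [← hb, map_mul, mul_assoc]
      rfl

end local_

end Cfsg.Agent.H616.M23
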