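import Cfsg.Agent.H875.M23.TraceChar
import Cfsg.Agent.H616.M23.Bt

/-!
# The symmetric square of `chi` (helper616): `H436.KreinM.symSq` for the character `chi` of `H875.M23.TraceChar`
-/

set_option autoImplicit false
set_option maxRecDepth 100000

namespace Cfsg.Agent.H616.M23

open Cfsg Cfsg.Agent.MonsterX.InstData Cfsg.Agent.Characters.Core
open Cfsg.Agent.H816.MEigL Cfsg.Agent.H816.MSch Cfsg.Agent.H816.MDeg Cfsg.Agent.H816.IMEig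
open Cfsg.Agent.H493.RatB Cfsg.Agent.H436.Krein Cfsg.Agent.H436.KreinM
open Cfsg.Agent.H875.M23.TraceChar (chi chi_irr chi_one chi_rat)
open scoped BigOperators ComplexConjugate

/-- **The symmetric square of `chi`.** -/
theorem symSq_chi : ∃ χ₁ χ₄ χ₅ : IrrCharacter ↥M.G, (χ₁ : ↥M.G → ℂ) = chi ∧ (χ₄ : ↥M.G → ℂ) 1 = 842609326 ∧
    (χ₅ : ↥M.G → ℂ) 1 = 18538750076 ∧ RatV (χ₄ : ↥M.G → ℂ) ∧ RatV (χ₅ : ↥M.G → ℂ) ∧
    ∀ g, ((χ₁ : ↥M.G → ℂ) g ^ 2 + (χ₁ : ↥M.G → ℂ) (g * g)) / 2 =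
      1 + (χ₁ : ↥M.G → ℂ) g + (χ₄ : ↥M.G → ℂ) g + (χ₅ : ↥M.G → ℂ) g := by
  classical
  have := finite_G
  have := Fintype.ofFinite ↥M.G
  obtain ⟨χ₀, e0⟩ : ∃ χ : IrrCharacter ↥M.G, (χ : ↥M.G → ℂ) = ch (vec [1, 1, 1, 1, 1, 1, 1, 1, 1]) 1 :=
    ⟨⟨_, ch_irr dat_1⟩, rfl⟩
  obtain ⟨χ₁, e1⟩ : ∃ χ : IrrCharacter ↥M.G, (χ : ↥M.G → ℂ) = chi := ⟨⟨_, chi_irr⟩, rfl⟩
  obtain ⟨χ₄, e4⟩ : ∃ χ : IrrCharacter ↥M.G, (χ : ↥M.G → ℂ) =
      ch (vec [13427712, 231936, 50176, 22131, -2790, 2464, 3032, -163, -21]) 13427712 :=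
    ⟨⟨_, ch_irr dat_842609326⟩, rfl⟩
  obtain ⟨χ₅, e5⟩ : ∃ χ : IrrCharacter ↥M.G, (χ : ↥M.G → ℂ) =
      ch (vec [12353495040, 107655168, -8101888, 6628347, 1621548, 416768, -332768, -57710, 24123]) 12353495040 :=
    ⟨⟨_, ch_irr dat_18538750076⟩, rfl⟩
  have d0 : (χ₀ : ↥M.G → ℂ) 1 = 1 := by
    rw [e0, ch_one dat_1]
    norm_num
  have d1 : (χ₁ : ↥M.G → ℂ) 1 = 196883 := by
    rw [e1, chi_one]
  have d4 : (χ₄ : ↥M.G → ℂ) 1 = 842609326 := by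
    rw [e4, ch_one dat_842609326]
    norm_num
  have d5 : (χ₅ : ↥M.G → ℂ) 1 = 18538750076 := by
    rw [e5, ch_one dat_18538750076]
    norm_num
  have hne : ∀ {a b : IrrCharacter ↥M.G} {x y : ℂ}, (a : ↥M.G → ℂ) 1 = x → (b : ↥M.G → ℂ) 1 = y → x ≠ y → a ≠ b := by
    rintro a b x y ha hb hxy rfl
    exact hxy (ha.symm.trans hb)
  have n01 : χ₀ ≠ χ₁ := hne d0 d1 (by norm_num)
  have n04 : χ₀ ≠ χ₄ := hne d0 d4 (by norm_num)
  have n05 : χ₀ ≠ χ₅ := hne d0 d5 (by norm_num)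
  have n14 : χ₁ ≠ χ₄ := hne d1 d4 (by norm_num)
  have n15 : χ₁ ≠ χ₅ := hne d1 d5 (by norm_num)
  have n45 : χ₄ ≠ χ₅ := hne d4 d5 (by norm_num)
  have hS : IsCharacter ↥M.G (fun g => ((χ₁ : ↥M.G → ℂ) g ^ 2 + (χ₁ : ↥M.G → ℂ) (g * g)) / 2) :=
    PermChar.SymAlt.isCharacter_symSq (isIrr_isCharacter χ₁.2)
  have hsum : ∀ f : IrrCharacter ↥M.G → ℂ, ∑ χ ∈ ({χ₀, χ₁, χ₄, χ₅} : Finset (IrrCharacter ↥M.G)), f χ =
      f χ₀ + f χ₁ + f χ₄ + f χ₅ := by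
    intro f
    have m0 : χ₀ ∉ ({χ₁, χ₄, χ₅} : Finset (IrrCharacter ↥M.G)) := by
      rw [Finset.mem_insert, Finset.mem_insert, Finset.mem_singleton]
      rintro (h | h | h)
      exacts [n01 h, n04 h, n05 h]
    have m1 : χ₁ ∉ ({χ₄, χ₅} : Finset (IrrCharacter ↥M.G)) := by
      rw [Finset.mem_insert, Finset.mem_singleton]
      rintro (h | h)
      exacts [n14 h, n15 h]
    have m4 : χ₄ ∉ ({χ₅} : Finset (IrrCharacter ↥M.G)) := by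
      rw [Finset.mem_singleton]
      exact n45
    rw [Finset.sum_insert m0, Finset.sum_insert m1, Finset.sum_insert m4, Finset.sum_singleton]
    ring
  have hmain := eq_sum_of_degree hS {χ₀, χ₁, χ₄, χ₅} (fun χ hχ => by
    simp only [Finset.mem_insert, Finset.mem_singleton] at hχ
    rw [e1]
    unfold chi
    rcases hχ with rfl | rfl | rfl | rfl
    · rw [e0]
      exact inner_ne_zero dat_1 (D₁ := 752) (by norm_num) (by decide +kernel)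
    · rw [e1]
      unfold chi
      exact inner_ne_zero dat_196883 (D₁ := 752) (by norm_num) (by decide +kernel)
    · rw [e4]
      exact inner_ne_zero dat_842609326 (D₁ := 752) (by norm_num) (by decide +kernel)
    · rw [e5]
      exact inner_ne_zero dat_18538750076 (D₁ := 752) (by norm_num) (by decide +kernel)) (by
    rw [hsum]
    show ((χ₁ : ↥M.G → ℂ) 1 ^ 2 + (χ₁ : ↥M.G → ℂ) (1 * 1)) / 2 = _
    rw [mul_one, d0, d1, d4, d5]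
    norm_num)
  refine ⟨χ₁, χ₄, χ₅, e1, d4, d5, e4 ▸ ch_rat dat_842609326, e5 ▸ ch_rat dat_18538750076, fun g => ?_⟩
  have h1 := congrFun hmain g
  rw [Finset.sum_apply, hsum] at h1
  rw [e0, ch_trivial g] at h1
  exact h1

/-- **The function `b` of the Monster.** -/
theorem exists_bt_chi {u : ↥M.G} {T : Subgroup ↥M.G} (hu : orderOf u = 5)
    (hle : T ≤ Subgroup.centralizer ({u} : Set ↥M.G))
    (hsplit : ∀ c ∈ Subgroup.centralizer ({u} : Set ↥M.G), ∃ i : ℕ, ∃ t ∈ T, c = u ^ i * t)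
    (hVu : chi u = 133) {H : Type} [Group H] [Finite H] (e : H ≃* T) :
    ∃ b : H → ℤ, (∀ h, chi (u * (e h : ↥M.G)) = b h) ∧ Bt b := by
  have := finite_G
  obtain ⟨χ₁, χ₄, χ₅, e1, d4, d5, r4, r5, hs⟩ := symSq_chi
  have h := exists_bt (V := χ₁) (A := χ₄) (B := χ₅) (by rw [e1, chi_one]) d4 d5 (by rw [e1]; exact chi_rat) r4 r5 hs hu
    hle hsplit (by rw [e1]; exact hVu) e
  rw [e1] at h
  exact h

end Cfsg.Agent.H616.M23
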