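import Cfsg.Agent.H616.M23.Beta
import Cfsg.Agent.H651.HNF.Table

/-!
# (M,23) of S4929, [BETA]: all values of `b` on the `5`-regular classes of `HN` (helper616)

`Words b` : the values computed in `2^(1+24+11).M24`; `Sums ty b` : the three sums over subgroups of `A12`;
`val` : `b g = (ty g).b`.
-/

set_option autoImplicit false

open Subgroup

namespace Cfsg.Agent.H616.M23

open Cfsg.Agent.H651.HNF

variable {H : Type} [Group H] [Finite H] {b : H → ℤ} {ty : H → Ty}

/-- the values computed in the monomial group -/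
structure Words (b : H → ℤ) : Prop where
  wB : ∃ y : H, orderOf y = 12 ∧ b y = -1 ∧ b (y ^ 2) = -1 ∧ b (y ^ 3) = 5 ∧ b (y ^ 4) = 7 ∧ b (y ^ 6) = 5
  wA : ∃ y : H, orderOf y = 12 ∧ b y = 1 ∧ b (y ^ 2) = 3 ∧ b (y ^ 3) = 1 ∧ b (y ^ 4) = 7 ∧ b (y ^ 6) = 21
  vA : ∃ y : H, orderOf y = 8 ∧ b y = -1 ∧ b (y ^ 2) = 1 ∧ b (y ^ 4) = 21
  vB : ∃ y : H, orderOf y = 8 ∧ b y = 1 ∧ b (y ^ 2) = 5 ∧ b (y ^ 4) = 5
  uC : ∃ y : H, orderOf y = 4 ∧ b y = -3 ∧ b (y ^ 2) = 5
  z : ∃ z : H, orderOf z = 2 ∧ Nat.card (centralizer ({z} : Set H)) = 3686400 ∧ b z = 5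

/-- the sums over subgroups of `A12` -/
structure Sums (ty : H → Ty) (b : H → ℤ) : Prop where
  s1 : ∀ x y : H, ty x = .c3A → ty y = .c3B → (81 : ℤ) ∣ 133 + 48 * b x + 32 * b y
  s2 : ∀ x y z : H, ty x = .c3A → ty y = .c3B → ty z = .c9 → (81 : ℤ) ∣ 133 + 18 * b x + 26 * b y + 36 * b z
  s4 : ∀ s x y : H, ty s = .c2B → ty x = .c6B → ty y = .c6C → (9 : ℤ) ∣ b s + 4 * b x + 4 * b y

/-- every type occurs -/
theorem exists_ty (T : Table H ty) (t : Ty) (ht : t ≠ .sing) (h0 : t.num ≠ 0) : ∃ g, ty g = t := by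
  by_contra h
  push Not at h
  apply h0
  rw [← T.num t ht]
  have : IsEmpty {g : H // ty g = t} := ⟨fun g => h g.1 g.2⟩
  exact Nat.card_of_isEmpty

theorem ty_of_ord {n : ℕ} {t : Ty} (h : t.ord = n) (hn : n ≠ 0) : t ∈ Ty.all.filter fun s => s.ord = n := by
  rw [List.mem_filter]
  exact ⟨Ty.mem_all t, by simpa using h⟩

theorem tTwo (T : Table H ty) {g : H} (h : orderOf g = 2) : ty g = .c2A ∨ ty g = .c2B := by
  have h1 : ty g ≠ .sing := fun h1 => by
    have := (T.sing g).1 h1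
    rw [h] at this
    omega
  have h2 := T.ord g h1
  rw [h] at h2
  revert h2
  cases ty g <;> decide

theorem tFour (T : Table H ty) {g : H} (h : orderOf g = 4) : ty g = .c4A ∨ ty g = .c4B ∨ ty g = .c4C := by
  have h1 : ty g ≠ .sing := fun h1 => by
    have := (T.sing g).1 h1
    rw [h] at this
    omega
  have h2 := T.ord g h1
  rw [h] at h2
  revert h2
  cases ty g <;> decide

theorem tEight (T : Table H ty) {g : H} (h : orderOf g = 8) : ty g = .c8A ∨ ty g = .c8B := by
  have h1 : ty g ≠ .sing := fun h1 => by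
    have := (T.sing g).1 h1
    rw [h] at this
    omega
  have h2 := T.ord g h1
  rw [h] at h2
  revert h2
  cases ty g <;> decide

theorem tTwelve (T : Table H ty) {g : H} (h : orderOf g = 12) : ty g = .c12A ∨ ty g = .c12B ∨ ty g = .c12C := by
  have h1 : ty g ≠ .sing := fun h1 => by
    have := (T.sing g).1 h1
    rw [h] at this
    omega
  have h2 := T.ord g h1
  rw [h] at h2
  revert h2
  cases ty g <;> decide

theorem tSq (T : Table H ty) {g : H} (h : ty g ≠ .sing) : ty (g ^ 2) = (ty g).sq := by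
  rw [T.pow g 2 (by norm_num) h]
  rfl

theorem tCu (T : Table H ty) {g : H} (h : ty g ≠ .sing) : ty (g ^ 3) = (ty g).cu := by
  rw [T.pow g 3 (by norm_num) h]
  rfl

theorem tNs (T : Table H ty) {g : H} {n : ℕ} (h : orderOf g = n) (hn : ¬ 5 ∣ n) : ty g ≠ .sing := fun h1 =>
  hn (h ▸ (T.sing g).1 h1)

/-- `b` depends only on the type -/
theorem eqv (T : Table H ty) (hb : Bt b) {g h : H} {t : Ty} (hg : ty g = t) (hh : ty h = t) (h1 : t ≠ .sing)
    (h2 : t ≠ .c19) : b g = b h :=
  hb.conj _ _ (T.conj g h (hg.trans hh.symm) (by rw [hg]; exact h1) (by rw [hg]; exact h2))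

/-- the values on the classes seen in the monomial group -/
theorem words (T : Table H ty) (hb : Bt b) (W : Words b) :
    (∀ g, ty g = .c2A → b g = 21) ∧ (∀ g, ty g = .c2B → b g = 5) ∧ (∀ g, ty g = .c3A → b g = 7) ∧
    (∀ g, ty g = .c4A → b g = 5) ∧ (∀ g, ty g = .c4B → b g = 1) ∧ (∀ g, ty g = .c4C → b g = -3) ∧
    (∀ g, ty g = .c6A → b g = 3) ∧ (∀ g, ty g = .c6B → b g = -1) ∧ (∀ g, ty g = .c8A → b g = -1) ∧
    (∀ g, ty g = .c8B → b g = 1) ∧ (∀ g, ty g = .c12A → b g = 1) ∧ (∀ g, ty g = .c12B → b g = -1) := by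
  obtain ⟨z, hz2, hzc, hz⟩ := W.z
  obtain ⟨y, hy, y1, y2, y3, y4, y6⟩ := W.wA
  obtain ⟨x, hx, x1, x2, x3, x4, x6⟩ := W.wB
  obtain ⟨p, hp, p1, p2, p4⟩ := W.vA
  obtain ⟨q, hq, q1, q2, q4⟩ := W.vB
  obtain ⟨r, hr, r1, r2⟩ := W.uC
  -- 2B
  have tz : ty z = .c2B := by
    rcases tTwo T hz2 with h | h
    · exfalso
      have h1 := T.cent z (tNs T hz2 (by norm_num))
      rw [hzc, h] at h1
      exact absurd h1 (by decide +kernel)
    · exact h
  have c2B : ∀ g, ty g = .c2B → b g = 5 := fun g hg => by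
    rw [eqv T hb hg tz (by decide) (by decide), hz]
  -- 12A
  have py : ∀ {w : H} {n : ℕ}, orderOf w = n → ¬ 5 ∣ n → ty (w ^ 6) = ((ty w).sq).cu := by
    intro w n h1 h2
    have h3 : ty w ≠ .sing := tNs T h1 h2
    have h4 : orderOf (w ^ 2) ∣ orderOf w := orderOf_pow_dvd 2
    have h5 : ty (w ^ 2) ≠ .sing := tNs T rfl fun h6 => h2 (h1 ▸ h6.trans h4)
    rw [show (6 : ℕ) = 2 * 3 from rfl, pow_mul, tCu T h5, tSq T h3]
  have pz : ∀ {w : H} {n : ℕ}, orderOf w = n → ¬ 5 ∣ n → ty (w ^ 4) = ((ty w).sq).sq := by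
    intro w n h1 h2
    have h3 : ty w ≠ .sing := tNs T h1 h2
    have h4 : orderOf (w ^ 2) ∣ orderOf w := orderOf_pow_dvd 2
    have h5 : ty (w ^ 2) ≠ .sing := tNs T rfl fun h6 => h2 (h1 ▸ h6.trans h4)
    rw [show (4 : ℕ) = 2 * 2 from rfl, pow_mul, tSq T h5, tSq T h3]
  have ny := tNs T hy (by norm_num)
  have nx := tNs T hx (by norm_num)
  have np := tNs T hp (by norm_num)
  have nq := tNs T hq (by norm_num)
  have nr := tNs T hr (by norm_num)
  have tyy : ty y = .c12A := by
    rcases tTwelve T hy with h | h | h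
    · exact h
    · have h1 := py hy (by norm_num)
      rw [h] at h1
      have h2 := c2B _ h1
      omega
    · have h1 := py hy (by norm_num)
      rw [h] at h1
      have h2 := c2B _ h1
      omega
  have ty2 : ty (y ^ 2) = .c6A := by rw [tSq T ny, tyy]; rfl
  have ty3 : ty (y ^ 3) = .c4B := by rw [tCu T ny, tyy]; rfl
  have ty4 : ty (y ^ 4) = .c3A := by rw [pz hy (by norm_num), tyy]; rfl
  have ty6 : ty (y ^ 6) = .c2A := by rw [py hy (by norm_num), tyy]; rfl
  have c2A : ∀ g, ty g = .c2A → b g = 21 := fun g hg => by rw [eqv T hb hg ty6 (by decide) (by decide), y6]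
  have c4B : ∀ g, ty g = .c4B → b g = 1 := fun g hg => by rw [eqv T hb hg ty3 (by decide) (by decide), y3]
  -- 8A, 8B
  have tp : ty p = .c8A := by
    rcases tEight T hp with h | h
    · exact h
    · have h1 := pz hp (by norm_num)
      rw [h] at h1
      have h2 := c2B _ h1
      omega
  have tq : ty q = .c8B := by
    rcases tEight T hq with h | h
    · have h1 := pz hq (by norm_num)
      rw [h] at h1
      have h2 := c2A _ h1
      omega
    · exact h
  have tq2 : ty (q ^ 2) = .c4A := by rw [tSq T nq, tq]; rfl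
  have c4A : ∀ g, ty g = .c4A → b g = 5 := fun g hg => by rw [eqv T hb hg tq2 (by decide) (by decide), q2]
  -- 4C
  have tr : ty r = .c4C := by
    rcases tFour T hr with h | h | h
    · have := c4A _ h
      omega
    · have := c4B _ h
      omega
    · exact h
  have c4C : ∀ g, ty g = .c4C → b g = -3 := fun g hg => by rw [eqv T hb hg tr (by decide) (by decide), r1]
  -- 12B
  have tx : ty x = .c12B := by
    rcases tTwelve T hx with h | h | h
    · have h1 := py hx (by norm_num)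
      rw [h] at h1
      have h2 := c2A _ h1
      omega
    · exact h
    · have h1 := tCu T nx
      rw [h] at h1
      have h2 := c4C _ h1
      omega
  have tx2 : ty (x ^ 2) = .c6B := by rw [tSq T nx, tx]; rfl
  refine ⟨c2A, c2B, ?_, c4A, c4B, c4C, ?_, ?_, ?_, ?_, ?_, ?_⟩
  · intro g hg
    rw [eqv T hb hg ty4 (by decide) (by decide), y4]
  · intro g hg
    rw [eqv T hb hg ty2 (by decide) (by decide), y2]
  · intro g hg
    rw [eqv T hb hg tx2 (by decide) (by decide), x2]
  · intro g hg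
    rw [eqv T hb hg tp (by decide) (by decide), p1]
  · intro g hg
    rw [eqv T hb hg tq (by decide) (by decide), q1]
  · intro g hg
    rw [eqv T hb hg tyy (by decide) (by decide), y1]
  · intro g hg
    rw [eqv T hb hg tx (by decide) (by decide), x1]

theorem tPow7 (T : Table H ty) {g : H} (h : ty g ≠ .sing) : ty (g ^ 7) = (ty g).pw 7 :=
  T.pow g 7 (by norm_num) h

theorem tPow11 (T : Table H ty) {g : H} (h : ty g ≠ .sing) : ty (g ^ 11) = (ty g).pw 11 :=
  T.pow g 11 (by norm_num) h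

/-- **All the values.** -/
theorem val (T : Table H ty) (hb : Bt b) (W : Words b) (S : Sums ty b) {g : H} (hg : ty g ≠ .sing) :
    b g = (ty g).b := by
  obtain ⟨c2A, c2B, c3A, c4A, c4B, c4C, c6A, c6B, c8A, c8B, c12A, c12B⟩ := words T hb W
  have ord : ∀ {g : H} {t : Ty}, ty g = t → t ≠ .sing → orderOf g = t.ord := fun {g t} h1 h2 => by
    rw [T.ord g (by rw [h1]; exact h2), h1]
  have cen : ∀ {g : H} {t : Ty}, ty g = t → t ≠ .sing → Nat.card (centralizer ({g} : Set H)) ≤ t.cen :=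
    fun {g t} h1 h2 => by rw [T.cent g (by rw [h1]; exact h2), h1]
  have sq : ∀ {g : H} {t : Ty}, ty g = t → t ≠ .sing → ty (g * g) = t.sq := fun {g t} h1 h2 => by
    rw [← pow_two, tSq T (by rw [h1]; exact h2), h1]
  obtain ⟨r3A, h3A⟩ := exists_ty T .c3A (by decide) (by decide)
  obtain ⟨r3B, h3B⟩ := exists_ty T .c3B (by decide) (by decide)
  obtain ⟨r9, h9⟩ := exists_ty T .c9 (by decide) (by decide)
  obtain ⟨r2B, h2B⟩ := exists_ty T .c2B (by decide) (by decide)
  obtain ⟨r6B, h6B⟩ := exists_ty T .c6B (by decide) (by decide)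
  obtain ⟨r6C, h6C⟩ := exists_ty T .c6C (by decide) (by decide)
  obtain ⟨r21, h21⟩ := exists_ty T .c21 (by decide) (by decide)
  have c3B : ∀ g, ty g = .c3B → b g = -2 := by
    intro g hg
    refine hb.v3B (ord hg (by decide)) (cen hg (by decide)) ?_
    have h1 := S.s1 r3A g h3A hg
    rw [c3A _ h3A] at h1
    exact h1
  have c9 : ∀ g, ty g = .c9 → b g = 1 := by
    intro g hg
    refine hb.v9 (ord hg (by decide)) (cen hg (by decide)) ?_
    have h1 := S.s2 r3A r3B g h3A h3B hg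
    rw [c3A _ h3A, c3B _ h3B] at h1
    exact h1
  have c6C : ∀ g, ty g = .c6C → b g = 2 := by
    intro g hg
    refine hb.v6C (ord hg (by decide)) (cen hg (by decide)) (c3B _ (sq hg (by decide))) ?_
    have h1 := S.s4 r2B r6B g h2B h6B hg
    rw [c2B _ h2B, c6B _ h6B] at h1
    exact h1
  have c21 : ∀ g, ty g = .c21 → b g = 0 := by
    intro g hg
    refine hb.v21 (ord hg (by decide)) (cen hg (by decide)) (c3A _ ?_)
    rw [tPow7 T (by rw [hg]; decide), hg]
    rfl
  have c7 : ∀ g, ty g = .c7 → b g = 0 := by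
    intro g hg
    refine hb.v7 (ord hg (by decide)) (cen hg (by decide)) (w := r21) (by rw [ord h21 (by decide)]; decide) ?_ (c21 _ h21)
    refine T.conj _ _ ?_ ?_ ?_
    · rw [tCu T (by rw [h21]; decide), h21, hg]
      rfl
    · rw [tCu T (by rw [h21]; decide), h21]
      decide
    · rw [tCu T (by rw [h21]; decide), h21]
      decide
  have c14 : ∀ g, ty g = .c14 → b g = 0 := by
    intro g hg
    refine hb.v14 (ord hg (by decide)) (cen hg (by decide)) (c2A _ ?_) (c7 _ (sq hg (by decide)))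
    rw [tPow7 T (by rw [hg]; decide), hg]
    rfl
  have c11 : ∀ g, ty g = .c11 → b g = 1 := fun g hg => hb.v11 (ord hg (by decide)) (cen hg (by decide))
  have c22 : ∀ g, ty g = .c22 → b g = -1 := by
    intro g hg
    refine hb.v22 (ord hg (by decide)) (cen hg (by decide)) (c2A _ ?_) (c11 _ (sq hg (by decide)))
    rw [tPow11 T (by rw [hg]; decide), hg]
    rfl
  have c19 : ∀ g, ty g = .c19 → b g = 0 := fun g hg => hb.v19 (ord hg (by decide)) (cen hg (by decide))
  have c12C : ∀ g, ty g = .c12C → b g = 0 := by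
    intro g hg
    refine hb.v12C (ord hg (by decide)) (cen hg (by decide)) (c6C _ (sq hg (by decide))) (c4C _ ?_)
    rw [tCu T (by rw [hg]; decide), hg]
    rfl
  have c1 : ∀ g, ty g = .c1 → b g = 133 := by
    intro g hg
    have h1 : g = 1 := orderOf_eq_one_iff.1 (ord hg (by decide))
    rw [h1, hb.one]
  rcases h : ty g with _ | _ | _ | _ | _ | _ | _ | _ | _ | _ | _ | _ | _ | _ | _ | _ | _ | _ | _ | _ | _ | _ | _ | _
  · exact absurd h hg
  · exact c1 g h
  · exact c2A g h
  · exact c2B g h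
  · exact c3A g h
  · exact c3B g h
  · exact c4A g h
  · exact c4B g h
  · exact c4C g h
  · exact c6A g h
  · exact c6B g h
  · exact c6C g h
  · exact c7 g h
  · exact c8A g h
  · exact c8B g h
  · exact c9 g h
  · exact c11 g h
  · exact c12A g h
  · exact c12B g h
  · exact c12C g h
  · exact c14 g h
  · exact c19 g h
  · exact c21 g h
  · exact c22 g h

end Cfsg.Agent.H616.M23
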